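import Groth.Agent.MagnetAttrRep.Affine
import Mathlib

/-!
# Representability of attractors of schemes affine over the base
-/

set_option autoImplicit false
set_option backward.isDefEq.respectTransparency false
set_option backward.isDefEq.respectTransparency.types false
set_option linter.style.haveILetI false
set_option maxHeartbeats 800000
set_option synthInstance.maxHeartbeats 100000

universe u

open CategoryTheory CategoryTheory.Limits MonoidalCategory CartesianMonoidalCategory MonObj AlgebraicGeometry Opposite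

namespace Groth.Agent.MagnetAttrRep

open Groth.Agent.MagnetAttr Magnet

variable {S : Scheme.{u}} {M : Type} [AddCommMonoid M]

theorem app_map {C : Type*} [Category.{u} C] {F : Cᵒᵖ ⥤ Type u} {X : C} (ν : F ⟶ yoneda.obj X) {W T : C} (g : W ⟶ T)
    (φ : F.obj (op T)) : ν.app (op W) (F.map g.op φ) = g ≫ ν.app (op T) φ :=
  ConcreteCategory.congr_hom (ν.naturality g.op) φ

theorem app_yonedaEquiv_symm {C : Type*} [Category.{u} C] {F : Cᵒᵖ ⥤ Type u} {X Z : C} (ν : F ⟶ yoneda.obj X)
    (u : F.obj (op Z)) {T : C} (z : T ⟶ Z) : ν.app (op T) ((yonedaEquiv.symm u).app (op T) z) = z ≫ ν.app (op Z) u :=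
  app_map ν z u

/-- The attractor of a scheme affine over the base is a closed subscheme. -/
theorem exists_representable {X : Over S} [IsAffineHom X.hom] (a : MonAct (AMonS S M) X) (N : AddSubmonoid M) :
    ∃ (Z : Over S) (i : Z ⟶ X) (e : (attr a N).RepresentableBy Z), IsClosedImmersion i.left ∧
      ∀ (T : Over S) (z : T ⟶ Z), (attrToX a N).app (op T) (e.homEquiv z) = z ≫ i := by
  classical
  let I := X.left.affineOpens
  let V : I → Over S := fun U => Over.mk (U.1.ι ≫ X.hom)
  let j : ∀ U, V U ⟶ X := fun U => Over.homMk U.1.ι rfl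
  haveI : ∀ U, IsAffine (V U).left := fun U => U.2
  haveI : ∀ U, IsOpenImmersion (j U).left := fun U => inferInstanceAs (IsOpenImmersion U.1.ι)
  haveI : ∀ U, Mono (j U) := fun U => by
    haveI : IsOpenImmersion (j U).left := inferInstanceAs (IsOpenImmersion U.1.ι)
    exact Over.mono_of_mono_left (j U)
  choose Zc c hc hiff using fun U : I => exists_closed_lifts a N (V U) (j U)
  haveI : ∀ U, Mono (c U) := fun U => by
    haveI := hc U
    exact Over.mono_of_mono_left (c U)
  choose u hu using fun U : I => (hiff U (Zc U) (c U)).2 ⟨𝟙 _, Category.id_comp _⟩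
  let κ : ∀ U, yoneda.obj (Zc U) ⟶ attr a N := fun U => yonedaEquiv.symm (u U)
  have κev : ∀ U (T : Over S) (z : T ⟶ Zc U), (attrToX a N).app (op T) ((κ U).app (op T) z) = z ≫ c U ≫ j U := by
    intro U T z
    exact (app_yonedaEquiv_symm (attrToX a N) (u U) z).trans (congrArg (fun w => z ≫ w) (hu U))
  obtain ⟨Z, ⟨e⟩⟩ := OverGlueRep.exists_representableBy (attr a N) (MagnetAttr.isSheaf_eqvHom _ _ a) Zc κ
    (fun U T z z' h => by
      have := congrArg (fun φ => (attrToX a N).app (op T) φ) h
      simp only [κev] at this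
      exact (cancel_mono (c U)).1 ((cancel_mono (j U)).1 (by simpa only [Category.assoc] using this)))
    (fun U T φ => ((attrToX a N).app (op T) φ).left ⁻¹ᵁ U.1)
    (fun U T φ W g => by
      have hev : (attrToX a N).app (op W) ((attr a N).map g.op φ) = g ≫ (attrToX a N).app (op T) φ :=
        app_map (attrToX a N) g φ
      constructor
      · intro hg
        let w : W ⟶ V U := Over.homMk (IsOpenImmersion.lift (j U).left (g ≫ (attrToX a N).app (op T) φ).left (by
          rintro _ ⟨p, rfl⟩
          show _ ∈ Set.range U.1.ι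
          rw [Scheme.Opens.range_ι]
          exact hg ⟨p, rfl⟩)) (by
            rw [← Over.w (j U)]
            erw [IsOpenImmersion.lift_fac_assoc]
            rw [Over.w])
        have hw : w ≫ j U = g ≫ (attrToX a N).app (op T) φ := Over.OverMorphism.ext (IsOpenImmersion.lift_fac _ _ _)
        obtain ⟨z, hz⟩ := (hiff U W w).1 ⟨_, hev.trans hw.symm⟩
        refine ⟨z, attrToX_injective a N W ?_⟩
        show (attrToX a N).app (op W) ((κ U).app (op W) z) = (attrToX a N).app (op W) ((attr a N).map g.op φ)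
        rw [κev, hev, ← hw, ← hz, Category.assoc]
      · rintro ⟨z, hz⟩ _ ⟨p, rfl⟩
        have h' : g ≫ (attrToX a N).app (op T) φ = (z ≫ c U) ≫ j U := by
          rw [← hev, ← hz, κev, Category.assoc]
        show (g ≫ (attrToX a N).app (op T) φ).left p ∈ U.1
        rw [h']
        exact ((z ≫ c U).left p).2)
    (fun T φ p => by
      obtain ⟨U, hU, hp, -⟩ := exists_isAffineOpen_mem_and_subset
        (x := ((attrToX a N).app (op T) φ).left p) (U := (⊤ : X.left.Opens)) trivial
      exact ⟨⟨U, hU⟩, hp⟩)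
  let i : Z ⟶ X := (attrToX a N).app (op Z) (e.homEquiv (𝟙 Z))
  have hi : ∀ (T : Over S) (z : T ⟶ Z), (attrToX a N).app (op T) (e.homEquiv z) = z ≫ i := by
    intro T z
    rw [e.homEquiv_eq z]
    exact app_map (attrToX a N) z _
  refine ⟨Z, i, e, ?_, hi⟩
  refine IsZariskiLocalAtTarget.of_iSup_eq_top (P := @IsClosedImmersion) (fun U : I => U.1) (iSup_affineOpens_eq_top _) fun U => ?_
  let k : Zc U ⟶ Z := e.homEquiv.symm (u U)
  have hk : k ≫ i = c U ≫ j U := by
    rw [← hi, Equiv.apply_symm_apply, hu]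
  have hl : ∀ s : PullbackCone i.left U.1.ι, ∃ l : s.pt ⟶ (Zc U).left, l ≫ k.left = s.fst ∧ l ≫ (c U).left = s.snd := by
    intro s
    let W : Over S := Over.mk (s.fst ≫ Z.hom)
    let a₁ : W ⟶ Z := Over.homMk s.fst rfl
    let a₂ : W ⟶ V U := Over.homMk s.snd (by
      show s.snd ≫ U.1.ι ≫ X.hom = s.fst ≫ Z.hom
      rw [← Category.assoc, ← s.condition, Category.assoc, Over.w])
    have ha : a₁ ≫ i = a₂ ≫ j U := Over.OverMorphism.ext s.condition
    obtain ⟨z, hz⟩ := (hiff U W a₂).1 ⟨e.homEquiv a₁, (hi W a₁).trans ha⟩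
    have hzk : z ≫ k = a₁ := e.homEquiv.injective (attrToX_injective a N W (by
      show (attrToX a N).app (op W) (e.homEquiv (z ≫ k)) = (attrToX a N).app (op W) (e.homEquiv a₁)
      rw [hi, hi, Category.assoc, hk, reassoc_of% hz, ha]))
    exact ⟨z.left, congrArg CommaMorphism.left hzk, congrArg CommaMorphism.left hz⟩
  choose l hl1 hl2 using hl
  haveI := hc U
  have hsq : IsPullback k.left (c U).left i.left U.1.ι :=
    IsPullback.of_isLimit' ⟨congrArg CommaMorphism.left hk⟩ (PullbackCone.IsLimit.mk _ l hl1 hl2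
      (fun s m _ h2 => by rw [← cancel_mono (c U).left, h2, hl2]))
  exact (MorphismProperty.arrow_mk_iso_iff @IsClosedImmersion
    (Arrow.isoMk (hsq.isoIsPullback _ _ (isPullback_morphismRestrict i.left U.1).flip) (Iso.refl _) ((hsq.isoIsPullback_hom_snd _ _ _).trans (Category.comp_id _).symm))).1 (hc U)

end Groth.Agent.MagnetAttrRep
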