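import Groth.Agent.MagnetAttrRep.Coeff
import Groth.Agent.OverGlueRep.Main
import Groth.Agent.MagnetAttr.Sheaf

/-!
# Attractors of schemes affine over the base are closed subschemes
-/

set_option autoImplicit false
set_option backward.isDefEq.respectTransparency false
set_option backward.isDefEq.respectTransparency.types false
set_option linter.style.haveILetI false
set_option linter.unusedSimpArgs false
set_option maxHeartbeats 1000000
set_option synthInstance.maxHeartbeats 100000

universe u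

open CategoryTheory CategoryTheory.Limits MonoidalCategory CartesianMonoidalCategory MonObj AlgebraicGeometry Opposite

namespace Groth.Agent.MagnetAttrRep

open Groth.Agent.MagnetAttr Magnet

attribute [local instance 2000] Algebra.toModule

variable {S : Scheme.{u}} {M : Type} [AddCommMonoid M]

/-- The map of chart rings of a map of coefficient rings. -/
noncomputable abbrev mapR {R R' : Type u} [CommRing R] [Algebra Zu.{u} R] [CommRing R']
    [Algebra Zu.{u} R'] (χ : R →ₐ[Zu.{u}] R') (P : Type) [AddCommMonoid P] :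
    CommRingCat.of (ring R P) ⟶ CommRingCat.of (ring R' P) :=
  CommRingCat.ofHom (Algebra.TensorProduct.map (AlgHom.id Zu.{u}
    (MonoidAlgebra Zu.{u} (Multiplicative P))) χ).toRingHom

/-- Charts commute with maps of bases. -/
theorem chart_natural {T T' : Over S} (g : T' ⟶ T) {R R' : Type u} [CommRing R] [Algebra Zu.{u} R] [CommRing R']
    [Algebra Zu.{u} R'] (ε : Spec (CommRingCat.of R) ⟶ T.left) (ε' : Spec (CommRingCat.of R') ⟶ T'.left)
    (χ : R →ₐ[Zu.{u}] R') (h : ε' ≫ g.left = Spec.map (CommRingCat.ofHom χ.toRingHom) ≫ ε)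
    (P : Type) [AddCommMonoid P] :
    chart S T' R' ε' P ≫ (AMonS S P ◁ g).left =
      Spec.map (mapR χ P) ≫ chart S T R ε P := by
  set F := Spec.map (mapR χ P) with hF
  have hR : F ≫ inR R P = inR R' P ≫ Spec.map (CommRingCat.ofHom χ.toRingHom) := by
    rw [hF, ← Spec.map_comp, ← Spec.map_comp]
    refine congrArg Spec.map (CommRingCat.hom_ext (RingHom.ext fun r => ?_))
    simp [mapR]
  have hL : F ≫ inL R P = inL R' P := by
    rw [hF, ← Spec.map_comp]
    refine congrArg Spec.map (CommRingCat.hom_ext (RingHom.ext fun r => ?_))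
    simp [mapR]
  have hw : (Spec.map (CommRingCat.ofHom χ.toRingHom) ≫ ε) ≫ T.hom = ε' ≫ T'.hom := by
    rw [← h, Category.assoc, Over.w g]
  apply pullback.hom_ext
  · rw [Category.assoc, Category.assoc, Over.whiskerLeft_left_fst]
    apply pullback.hom_ext
    · rw [Category.assoc, Category.assoc, Category.assoc]
      refine (chart_fst_fst S T' R' ε' P).trans (hL.symm.trans ?_)
      exact congrArg (F ≫ ·) (chart_fst_fst S T R ε P).symm
    · rw [Category.assoc, Category.assoc, Category.assoc]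
      refine (chart_fst_snd S T' R' ε' P).trans ?_
      refine Eq.trans ?_ (congrArg (F ≫ ·) (chart_fst_snd S T R ε P).symm)
      rw [reassoc_of% hR]
      exact congrArg (inR R' P ≫ ·) (hw.symm.trans (Category.assoc _ _ _))
  · rw [Category.assoc, Category.assoc, Over.whiskerLeft_left_snd, ← Category.assoc]
    refine (congrArg (· ≫ g.left) (chart_snd S T' R' ε' P)).trans ?_
    refine Eq.trans ?_ (congrArg (F ≫ ·) (chart_snd S T R ε P).symm)
    rw [Category.assoc, h, reassoc_of% hR]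

/-- For an affine test object the points of a scheme affine over the base extending to equivariant families form a
closed subscheme. -/
theorem exists_closed_lifts {X : Over S} [IsAffineHom X.hom] (a : MonAct (AMonS S M) X) (N : AddSubmonoid M)
    (V : Over S) [IsAffine V.left] (j : V ⟶ X) :
    ∃ (Z : Over S) (c : Z ⟶ V), IsClosedImmersion c.left ∧
      ∀ (T : Over S) (g : T ⟶ V),
        (∃ φ : (attr a N).obj (op T), (attrToX a N).app (op T) φ = g ≫ j) ↔ ∃ z : T ⟶ Z, z ≫ c = g := by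
  classical
  let ε : Spec Γ(V.left, ⊤) ≅ V.left := V.left.isoSpec.symm
  let aR : CommRingCat.of (ULift.{u} ℤ) ⟶ Γ(V.left, ⊤) :=
    Spec.preimage (IsTerminal.from specULiftZIsTerminal.{u} (Spec Γ(V.left, ⊤)))
  letI : Algebra Zu.{u} Γ(V.left, ⊤) := aR.hom.toAlgebra
  let R : Type u := Γ(V.left, ⊤)
  let XV := pullback X.hom V.hom
  haveI : IsAffineHom (pullback.snd X.hom V.hom) := MorphismProperty.pullback_snd _ _ inferInstance
  haveI : IsAffine XV := isAffine_of_isAffineHom (pullback.snd X.hom V.hom)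
  let o : AMonS S M ⊗ V ⟶ X := lift (fst _ _) (snd _ _ ≫ j) ≫ a.act
  let c (P : Type) [AddCommMonoid P] := chart S V R ε.hom P
  have hch : ∀ (P : Type) [AddCommMonoid P], c P ≫ (AMonS S P ⊗ V).hom = inR R P ≫ ε.hom ≫ V.hom := by
    intro P _
    rw [← Over.w (snd (AMonS S P) V), reassoc_of% (chart_snd S V R ε.hom P)]
  let U : Spec (CommRingCat.of (ring R M)) ⟶ XV :=
    pullback.lift (c M ≫ o.left) (inR R M ≫ ε.hom) (by rw [Category.assoc, Over.w o, hch, Category.assoc])
  let α : Γ(XV, ⊤) ⟶ CommRingCat.of (ring R M) := Spec.preimage (U ≫ XV.isoSpec.hom)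
  have hUα : U = Spec.map α ≫ XV.isoSpec.inv := by simp [α]
  let I : Ideal R := Ideal.span {r | ∃ m : Multiplicative M, m.toAdd ∉ N ∧ ∃ x, r = coefR R m (α.hom x)}
  let π : R →ₐ[Zu.{u}] R ⧸ I := Ideal.Quotient.mkₐ Zu.{u} I
  let πS := Spec.map (CommRingCat.ofHom π.toRingHom)
  let Z : Over S := Over.mk (πS ≫ ε.hom ≫ V.hom)
  let cl : Z ⟶ V := Over.homMk (πS ≫ ε.hom) (Category.assoc _ _ _)
  haveI : IsClosedImmersion πS :=
    IsClosedImmersion.spec_of_surjective (CommRingCat.ofHom π.toRingHom) Ideal.Quotient.mk_surjective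
  haveI : IsClosedImmersion cl.left := inferInstanceAs (IsClosedImmersion (πS ≫ ε.hom))
  haveI : Mono cl := Over.mono_of_mono_left cl
  -- the universal family
  have hker : ∀ x (m : Multiplicative M), m.toAdd ∉ N →
      coefR (R ⧸ I) m ((Algebra.TensorProduct.map (AlgHom.id Zu.{u} (MonoidAlgebra Zu.{u} (Multiplicative M))) π) (α.hom x)) = 0 := by
    intro x m hm
    rw [coefR_map]
    exact Ideal.Quotient.eq_zero_iff_mem.2 (Ideal.subset_span ⟨m, hm, x, rfl⟩)
  have hinj : Function.Injective (chartMap (R ⧸ I) N.subtype).hom :=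
    injective_tensor Zu.{u} N.subtype Subtype.val_injective (R ⧸ I)
  let eq := RingEquiv.ofBijective (chartMap (R ⧸ I) N.subtype).hom.rangeSRestrict
    ⟨fun a b h => hinj (congrArg Subtype.val h), (chartMap (R ⧸ I) N.subtype).hom.rangeSRestrict_surjective⟩
  let β : Γ(XV, ⊤) ⟶ CommRingCat.of (ring (R ⧸ I) M) := α ≫ mapR π M
  let δ : Γ(XV, ⊤) ⟶ CommRingCat.of (ring (R ⧸ I) N) :=
    CommRingCat.ofHom (eq.symm.toRingHom.comp (β.hom.codRestrict _ fun x => mem_range_of_coefR N _ (hker x)))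
  have hδ : δ ≫ chartMap (R ⧸ I) N.subtype = β := by
    refine CommRingCat.hom_ext (RingHom.ext fun x => ?_)
    exact congrArg Subtype.val (eq.apply_symm_apply ⟨_, mem_range_of_coefR N _ (hker x)⟩)
  let W := Spec.map δ ≫ XV.isoSpec.inv
  let εZ : Spec (CommRingCat.of (R ⧸ I)) ⟶ Z.left := 𝟙 _
  have hnat : ∀ (P : Type) [AddCommMonoid P], chart S Z (R ⧸ I) εZ P ≫ (AMonS S P ◁ cl).left =
      Spec.map (mapR π P) ≫ c P := fun P _ =>
    chart_natural cl ε.hom εZ π (by simp [εZ, cl, πS]) P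
  have hW : Spec.map (chartMap (R ⧸ I) N.subtype) ≫ W =
      pullback.lift (chart S Z (R ⧸ I) εZ M ≫ ((AMonS S M ◁ cl) ≫ o).left) (inR (R ⧸ I) M ≫ cl.left)
        (by
          rw [Category.assoc, Over.w, ← Over.w (snd (AMonS S M) Z), reassoc_of% (chart_snd S Z (R ⧸ I) εZ M),
            Category.assoc, Over.w]
          simp [εZ]) := by
    simp only [W, ← Category.assoc, ← Spec.map_comp, hδ]
    simp only [β, Spec.map_comp, Category.assoc, ← hUα]
    apply pullback.hom_ext
    · simp only [U, Category.assoc, pullback.lift_fst, Over.comp_left]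
      rw [reassoc_of% (hnat M)]
    · simp only [U, Category.assoc, pullback.lift_snd]
      rw [← Category.assoc, ← Spec.map_comp, show cl.left = πS ≫ ε.hom from rfl, ← Category.assoc (inR (R ⧸ I) M)]
      congr 1
      refine Eq.trans (congrArg Spec.map (CommRingCat.hom_ext (RingHom.ext fun r => ?_))) (Spec.map_comp _ _)
      simp [mapR]
  have hW2 : W ≫ pullback.snd X.hom V.hom = inR (R ⧸ I) N ≫ cl.left := by
    refine eq_affine (chartMap (R ⧸ I) N.subtype) hinj
      (IsTerminal.from specULiftZIsTerminal.{u} V.left) _ _ (specULiftZIsTerminal.hom_ext _ _) ?_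
    rw [← Category.assoc, hW, pullback.lift_snd, ← Category.assoc, ← Spec.map_comp]
    congr 1
    refine congrArg Spec.map (CommRingCat.hom_ext (RingHom.ext fun r => ?_))
    simp [chartMap]
  haveI : ∀ (P : Type) [AddCommMonoid P], IsIso (chart S Z (R ⧸ I) εZ P) := fun P _ =>
    (chart_isPullback S Z (R ⧸ I) εZ P).isIso_fst_of_isIso
  let ψ : AMonS S N ⊗ Z ⟶ X := Over.homMk (inv (chart S Z (R ⧸ I) εZ N) ≫ W ≫ pullback.fst X.hom V.hom) (by
    rw [Category.assoc, Category.assoc, pullback.condition, IsIso.inv_comp_eq, reassoc_of% hW2, Over.w,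
      ← Over.w (snd (AMonS S N) Z), reassoc_of% (chart_snd S Z (R ⧸ I) εZ N)]
    simp [εZ])
  have hψ : (AMonS.map S N.subtype ▷ Z) ≫ ψ = (AMonS S M ◁ cl) ≫ o := by
    refine Over.OverMorphism.ext ?_
    rw [← cancel_epi (chart S Z (R ⧸ I) εZ M)]
    show chart S Z (R ⧸ I) εZ M ≫ _ ≫ inv (chart S Z (R ⧸ I) εZ N) ≫ W ≫ pullback.fst _ _ = _
    rw [reassoc_of% (chart_comp S Z (R ⧸ I) εZ N.subtype), IsIso.hom_inv_id_assoc, ← Category.assoc, hW,
      pullback.lift_fst]
  have heq : MonAct.IsEquivariant ((subAct S M N).prod (MonAct.trivial _ Z)) a ψ := by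
    rw [MonAct.mem_eqvHom_iff]
    intro T' gm b s
    have huniv : lift (lift (snd (AMonS S N) (AMonS S M ⊗ Z) ≫ fst _ _) (fst _ _) ≫ (subAct S M N).act)
        (snd (AMonS S N) (AMonS S M ⊗ Z) ≫ snd _ _) ≫ ψ =
        lift (snd (AMonS S N) (AMonS S M ⊗ Z) ≫ fst _ _) (lift (fst _ _) (snd (AMonS S N) (AMonS S M ⊗ Z) ≫ snd _ _) ≫ ψ) ≫ a.act := by
      refine eq_of_map S N.subtype Subtype.val_injective (AMonS S M ⊗ Z) _ _ ?_
      refine Magnet.hom_ext_lift₂ fun T'' h z => ?_
      simp only [lift_whiskerRight_assoc, comp_lift_assoc, comp_lift, lift_fst, lift_snd, lift_snd_assoc, Category.assoc,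
        subAct, MonAct.lift_restrict_act, MonAct.lift_regular_act, MonObj.comp_mul]
      rw [← Category.assoc z (fst _ _) (AMonS.map S N.subtype), ← MonObj.mul_comp, ← lift_whiskerRight_assoc, hψ,
        ← lift_whiskerRight_assoc h _ (AMonS.map S N.subtype), hψ]
      simp only [o, lift_whiskerLeft_assoc, comp_lift_assoc, lift_fst, lift_snd_assoc, MonAct.lift_mul_act]
    have := congrArg (fun t => lift b (lift gm s) ≫ t) huniv
    simpa [comp_lift_assoc, comp_lift] using this
  have hev : (attrToX a N).app (op Z) ⟨ψ, heq⟩ = cl ≫ j := by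
    show lift (toUnit Z ≫ η[AMonS S N]) (𝟙 Z) ≫ ψ = cl ≫ j
    have e1 : lift (toUnit Z ≫ η[AMonS S N]) (𝟙 Z) =
        lift (toUnit Z ≫ η[AMonS S M]) (𝟙 Z) ≫ (AMonS.map S N.subtype ▷ Z) := by
      rw [lift_whiskerRight, Category.assoc, IsMonHom.one_hom]
    rw [e1, Category.assoc, hψ]
    simp only [o, lift_whiskerLeft_assoc, comp_lift_assoc, lift_fst, lift_snd_assoc, Category.id_comp]
    rw [← Hom.one_def, MonAct.lift_one_act]
  let φ₀ : (attr a N).obj (op Z) := ⟨ψ, heq⟩
  have hev₀ : (attrToX a N).app (op Z) φ₀ = cl ≫ j := hev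
  clear_value φ₀
  have key : ∀ (T' : Over S) [IsAffine T'.left] (g' : T' ⟶ V) (φ' : (attr a N).obj (op T')),
      (attrToX a N).app (op T') φ' = g' ≫ j → ∀ r ∈ I, g'.left.appTop.hom r = 0 := by
    intro T' _ g' φ' hφ' r hr
    let ε' : Spec Γ(T'.left, ⊤) ⟶ T'.left := T'.left.isoSpec.inv
    let aR' : CommRingCat.of (ULift.{u} ℤ) ⟶ Γ(T'.left, ⊤) :=
      Spec.preimage (IsTerminal.from specULiftZIsTerminal.{u} (Spec Γ(T'.left, ⊤)))
    letI : Algebra Zu.{u} Γ(T'.left, ⊤) := aR'.hom.toAlgebra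
    let χ : R →ₐ[Zu.{u}] Γ(T'.left, ⊤) :=
      { g'.left.appTop.hom with
        commutes' := fun z => congrArg (fun h : CommRingCat.of (ULift.{u} ℤ) ⟶ Γ(T'.left, ⊤) => h.hom z)
          ((Spec.map_injective (specULiftZIsTerminal.hom_ext (Spec.map (aR ≫ g'.left.appTop)) (Spec.map aR'))) : aR ≫ g'.left.appTop = aR') }
    have hχ : ε' ≫ g'.left = Spec.map (CommRingCat.ofHom χ.toRingHom) ≫ ε.hom :=
      (Scheme.isoSpec_inv_naturality g'.left).symm
    let c' (P : Type) [AddCommMonoid P] := chart S T' Γ(T'.left, ⊤) ε' P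
    have hch' : ∀ (P : Type) [AddCommMonoid P],
        c' P ≫ (AMonS S P ⊗ T').hom = inR Γ(T'.left, ⊤) P ≫ ε' ≫ T'.hom := by
      intro P _
      rw [← Over.w (snd (AMonS S P) T'), reassoc_of% (chart_snd S T' Γ(T'.left, ⊤) ε' P)]
    let UN : Spec (CommRingCat.of (ring Γ(T'.left, ⊤) N)) ⟶ XV :=
      pullback.lift (c' N ≫ φ'.1.left) (inR Γ(T'.left, ⊤) N ≫ ε' ≫ g'.left)
        (by rw [Category.assoc, Over.w φ'.1, hch', Category.assoc, Category.assoc, Over.w g'])
    let δ' : Γ(XV, ⊤) ⟶ CommRingCat.of (ring Γ(T'.left, ⊤) N) := Spec.preimage (UN ≫ XV.isoSpec.hom)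
    have hfst : (AMonS S M ◁ g') ≫ o = (AMonS.map S N.subtype ▷ T') ≫ φ'.1 := by
      rw [map_subtype_comp a N T' φ', hφ']
      simp only [o, comp_lift_assoc, whiskerLeft_fst, whiskerLeft_snd_assoc]
    have hU' : Spec.map (mapR χ M) ≫ U = Spec.map (chartMap Γ(T'.left, ⊤) N.subtype) ≫ UN := by
      apply pullback.hom_ext
      · simp only [U, UN, Category.assoc, pullback.lift_fst]
        rw [← reassoc_of% (chart_natural g' ε.hom ε' χ hχ M),
          ← reassoc_of% (chart_comp S T' Γ(T'.left, ⊤) ε' N.subtype), ← Over.comp_left, hfst, Over.comp_left]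
      · simp only [U, UN, Category.assoc, pullback.lift_snd]
        rw [hχ, ← Category.assoc, ← Category.assoc (Spec.map (chartMap Γ(T'.left, ⊤) N.subtype)),
          ← Category.assoc (Spec.map (chartMap Γ(T'.left, ⊤) N.subtype) ≫ inR Γ(T'.left, ⊤) N)]
        congr 1
        simp only [inR, ← Spec.map_comp]
        refine congrArg Spec.map (CommRingCat.hom_ext (RingHom.ext fun x => ?_))
        simp [mapR, chartMap]
    have hα' : α ≫ mapR χ M = δ' ≫ chartMap Γ(T'.left, ⊤) N.subtype := by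
      apply Spec.map_injective
      simp only [Spec.map_comp, δ', α, Spec.map_preimage, ← Category.assoc, hU']
    refine (RingHom.mem_ker (f := χ.toRingHom)).1 (?_ : r ∈ RingHom.ker χ.toRingHom)
    refine Ideal.span_le.2 ?_ hr
    rintro _ ⟨m, hm, x, rfl⟩
    show χ (coefR R m (α.hom x)) = 0
    rw [← coefR_map χ m]
    exact (congrArg (fun f : Γ(XV, ⊤) ⟶ CommRingCat.of (ring Γ(T'.left, ⊤) M) => coefR Γ(T'.left, ⊤) m (f.hom x)) hα').trans
      (coefR_eq_zero N m hm (δ'.hom x))
  refine ⟨Z, cl, inferInstance, fun T g => ⟨?_, ?_⟩⟩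
  · rintro ⟨φ, hφ⟩
    suffices hI : ∀ r ∈ I, g.left.appTop.hom r = 0 by
      let q : CommRingCat.of (R ⧸ I) ⟶ Γ(T.left, ⊤) := CommRingCat.ofHom (Ideal.Quotient.lift I g.left.appTop.hom hI)
      let l := T.left.toSpecΓ ≫ Spec.map q
      have hq : CommRingCat.ofHom π.toRingHom ≫ q = g.left.appTop :=
        CommRingCat.hom_ext (RingHom.ext fun r => Ideal.Quotient.lift_mk I _ hI)
      have hq' : Spec.map q ≫ πS = Spec.map g.left.appTop := (Spec.map_comp _ _).symm.trans (congrArg Spec.map hq)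
      have hl : l ≫ πS ≫ ε.hom = g.left := by
        show (T.left.toSpecΓ ≫ Spec.map q) ≫ πS ≫ V.left.isoSpec.inv = g.left
        rw [Category.assoc, reassoc_of% hq', ← Scheme.toSpecΓ_naturality_assoc g.left]
        exact (congrArg (g.left ≫ ·) V.left.isoSpec.hom_inv_id).trans (Category.comp_id _)
      refine ⟨Over.homMk l ?_, Over.OverMorphism.ext hl⟩
      show l ≫ πS ≫ ε.hom ≫ V.hom = T.hom
      rw [reassoc_of% hl, Over.w]
    intro r hr
    refine Scheme.zero_of_zero_cover _ T.left.affineCover fun i => ?_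
    let T' : Over S := Over.mk (T.left.affineCover.f i ≫ T.hom)
    haveI : IsAffine T'.left := inferInstanceAs (IsAffine (Spec _))
    let t : T' ⟶ T := Over.homMk (T.left.affineCover.f i) rfl
    have hφ' : (attrToX a N).app (op T') ((attr a N).map t.op φ) = (t ≫ g) ≫ j := by
      refine (ConcreteCategory.congr_hom ((attrToX a N).naturality t.op) φ).trans ?_
      exact (congrArg (fun w => t ≫ w) hφ).trans (Category.assoc _ _ _).symm
    have hr' := key T' (t ≫ g) _ hφ' r hr
    rw [← hr']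
    show _ = ((t.left ≫ g.left).appTop).hom r
    rw [Scheme.Hom.comp_appTop]
    rfl
  · rintro ⟨z, rfl⟩
    refine ⟨(attr a N).map z.op φ₀, ?_⟩
    rw [Category.assoc, ← hev₀]
    exact ConcreteCategory.congr_hom ((attrToX a N).naturality z.op) φ₀

end Groth.Agent.MagnetAttrRep
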