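import Groth.Agent.MagnetAttr.Affine
import Mathlib.LinearAlgebra.DirectSum.Finsupp

/-!
# Coefficients in a monoid algebra with coefficients in a ring
-/

set_option autoImplicit false
set_option backward.isDefEq.respectTransparency false
set_option linter.style.haveILetI false
set_option linter.unusedSimpArgs false

universe u

open TensorProduct

namespace Groth.Agent.MagnetAttrRep

open Groth.Agent.MagnetAttr

attribute [local instance 2000] Algebra.toModule

variable {M : Type} [AddCommMonoid M] {R R' : Type u} [CommRing R] [Algebra Zu.{u} R] [CommRing R'] [Algebra Zu.{u} R']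

variable (R) in
open Classical in
/-- The coefficient of an exponent. -/
noncomputable def coefR (m : Multiplicative M) : ring R M →ₗ[Zu.{u}] R :=
  (TensorProduct.lid Zu.{u} R).toLinearMap ∘ₗ
    TensorProduct.map (Finsupp.lapply m ∘ₗ (MonoidAlgebra.coeffLinearEquiv Zu.{u}).toLinearMap) LinearMap.id

open Classical in
theorem coefR_single (m n : Multiplicative M) (z : Zu.{u}) (r : R) :
    coefR R m (MonoidAlgebra.single n z ⊗ₜ r) = if n = m then algebraMap Zu.{u} R z * r else 0 := by
  rw [coefR, LinearMap.comp_apply, TensorProduct.map_tmul, LinearEquiv.coe_coe, TensorProduct.lid_tmul,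
    LinearMap.id_apply, LinearMap.comp_apply, LinearEquiv.coe_coe, Finsupp.lapply_apply,
    MonoidAlgebra.coeffLinearEquiv_apply, MonoidAlgebra.coeff_single, Finsupp.single_apply, Algebra.smul_def]
  split <;> simp

open Classical in
theorem exists_finset (y : ring R M) : ∃ s₀ : Finset (Multiplicative M), ∀ s, s₀ ⊆ s →
    y = ∑ m ∈ s, MonoidAlgebra.single m (1 : Zu.{u}) ⊗ₜ[Zu.{u}] coefR R m y := by
  induction y using TensorProduct.induction_on with
  | zero => exact ⟨∅, fun s _ => by simp⟩
  | tmul a r =>
    induction a using MonoidAlgebra.induction_linear with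
    | zero => exact ⟨∅, fun s _ => by simp⟩
    | add p q hp hq =>
      obtain ⟨s₁, h₁⟩ := hp
      obtain ⟨s₂, h₂⟩ := hq
      refine ⟨s₁ ∪ s₂, fun s hs => ?_⟩
      rw [TensorProduct.add_tmul]
      conv_lhs => rw [h₁ s (Finset.union_subset_left hs), h₂ s (Finset.union_subset_right hs)]
      simp only [map_add, TensorProduct.tmul_add, Finset.sum_add_distrib]
    | single n z =>
      refine ⟨{n}, fun s hs => ?_⟩
      rw [Finset.sum_eq_single n (fun m _ hm => by rw [coefR_single, if_neg (Ne.symm hm), TensorProduct.tmul_zero])
        (fun h => absurd (hs (Finset.mem_singleton_self n)) h), coefR_single, if_pos rfl]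
      obtain ⟨c, rfl⟩ : ∃ c : ℤ, z = (c : Zu.{u}) := ⟨z.down, ULift.ext _ _ (by simp)⟩
      rw [map_intCast, ← zsmul_eq_mul, ← TensorProduct.smul_tmul, MonoidAlgebra.smul_single, zsmul_one]
  | add p q hp hq =>
    obtain ⟨s₁, h₁⟩ := hp
    obtain ⟨s₂, h₂⟩ := hq
    refine ⟨s₁ ∪ s₂, fun s hs => ?_⟩
    conv_lhs => rw [h₁ s (Finset.union_subset_left hs), h₂ s (Finset.union_subset_right hs)]
    simp only [map_add, TensorProduct.tmul_add, Finset.sum_add_distrib]

/-- Coefficients commute with maps of coefficient rings. -/
theorem coefR_map (χ : R →ₐ[Zu.{u}] R') (m : Multiplicative M) (y : ring R M) :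
    coefR R' m (Algebra.TensorProduct.map (AlgHom.id Zu.{u} _) χ y) = χ (coefR R m y) := by
  classical
  induction y using TensorProduct.induction_on with
  | zero => simp
  | tmul a r =>
    induction a using MonoidAlgebra.induction_linear with
    | zero => simp
    | add p q hp hq => simp only [TensorProduct.add_tmul, map_add, hp, hq]
    | single n z =>
      rw [Algebra.TensorProduct.map_tmul, AlgHom.id_apply, coefR_single, coefR_single]
      split <;> simp
  | add p q hp hq => simp only [map_add, hp, hq]

theorem coefR_eq_zero (N : AddSubmonoid M) (m : Multiplicative M) (hm : m.toAdd ∉ N) (y : ring R N) :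
    coefR R m ((chartMap R N.subtype).hom y) = 0 := by
  classical
  induction y using TensorProduct.induction_on with
  | zero => simp
  | tmul a r =>
    induction a using MonoidAlgebra.induction_linear with
    | zero => simp
    | add p q hp hq => simp only [TensorProduct.add_tmul, map_add, hp, hq, add_zero]
    | single n z =>
      simp only [chartMap, CommRingCat.hom_ofHom, AlgHom.toRingHom_eq_coe, RingHom.coe_coe,
        Algebra.TensorProduct.map_tmul, AlgHom.id_apply]
      simp [coefR_single]
      intro e
      exfalso
      apply hm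
      rw [← e]
      exact n.toAdd.2
  | add p q hp hq => simp only [map_add, hp, hq, add_zero]

/-- An element is supported on a submonoid when the other coefficients vanish. -/
theorem mem_range_of_coefR (N : AddSubmonoid M) (y : ring R M)
    (hy : ∀ m : Multiplicative M, m.toAdd ∉ N → coefR R m y = 0) :
    y ∈ (chartMap R N.subtype).hom.rangeS := by
  classical
  obtain ⟨s, hs⟩ := exists_finset y
  rw [hs s subset_rfl]
  refine Subsemiring.sum_mem _ fun m _ => ?_
  by_cases hm : m.toAdd ∈ N
  · refine ⟨MonoidAlgebra.single (Multiplicative.ofAdd (⟨m.toAdd, hm⟩ : N)) 1 ⊗ₜ coefR R m y, ?_⟩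
    simp
  · rw [hy m hm, TensorProduct.tmul_zero]
    exact zero_mem _

end Groth.Agent.MagnetAttrRep
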