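import Groth.Agent.MagnetAttrRep.Crit
import Groth.Agent.MagnetAttrRep.Main
import Mathlib

/-!
# Finiteness of the pure magnets
-/

set_option autoImplicit false
set_option backward.isDefEq.respectTransparency false
set_option backward.isDefEq.respectTransparency.types false
set_option linter.style.haveILetI false
set_option maxHeartbeats 800000
set_option synthInstance.maxHeartbeats 100000

universe u

open CategoryTheory CategoryTheory.Limits MonoidalCategory CartesianMonoidalCategory MonObj AlgebraicGeometry Opposite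

namespace Groth.Agent.MagnetAttrRep

open Groth.Agent.MagnetAttr Magnet

attribute [local instance 2000] Algebra.toModule

variable {S : Scheme.{u}} {M : Type} [AddCommMonoid M]

theorem attrToX_attrMap {X : Over S} (a : MonAct (AMonS S M) X) {L N : AddSubmonoid M} (h : L ≤ N) (T : Over S)
    (φ : (attr a L).obj (op T)) :
    (attrToX a N).app (op T) ((attrMap a h).app (op T) φ) = (attrToX a L).app (op T) φ := by
  show lift (toUnit T ≫ η[AMonS S N]) (𝟙 T) ≫ (AMonS.map S (AddSubmonoid.inclusion h) ▷ T) ≫ φ.1 =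
    lift (toUnit T ≫ η[AMonS S L]) (𝟙 T) ≫ φ.1
  rw [lift_whiskerRight_assoc, Category.assoc, IsMonHom.one_hom]

/-- On an affine test object finitely many degrees control all attractors. -/
theorem exists_finite_degrees {X : Over S} [IsAffineHom X.hom] [LocallyOfFiniteType X.hom] (a : MonAct (AMonS S M) X)
    (V : Over S) [IsAffine V.left] (j : V ⟶ X) :
    ∃ D : Set M, D.Finite ∧ ∀ (N L : AddSubmonoid M), D ∩ N ⊆ L → ∀ (T : Over S) (g : T ⟶ V),
      (∃ φ : (attr a N).obj (op T), (attrToX a N).app (op T) φ = g ≫ j) →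
      ∃ φ : (attr a L).obj (op T), (attrToX a L).app (op T) φ = g ≫ j := by
  classical
  obtain ⟨_, α, hα, hcrit⟩ := exists_coef_criterion a V j
  let p := pullback.snd X.hom V.hom
  haveI : IsAffineHom p := MorphismProperty.pullback_snd _ _ inferInstance
  haveI : LocallyOfFiniteType p := MorphismProperty.pullback_snd _ _ inferInstance
  haveI : IsAffine (pullback X.hom V.hom) := isAffine_of_isAffineHom p
  have hft : p.appTop.hom.FiniteType := (HasRingHomProperty.iff_of_isAffine (P := @LocallyOfFiniteType)).1 inferInstance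
  obtain ⟨s, hs⟩ : ∃ s : Finset Γ(pullback X.hom V.hom, ⊤),
      Subring.closure (Set.range p.appTop.hom ∪ ↑s) = ⊤ := by
    letI := p.appTop.hom.toAlgebra
    obtain ⟨s, hs⟩ := (hft : Algebra.FiniteType Γ(V.left, ⊤) Γ(pullback X.hom V.hom, ⊤)).out
    exact ⟨s, (Algebra.adjoin_eq_ring_closure _).symm.trans (congrArg Subalgebra.toSubring hs)⟩
  choose s₀ hs₀ using fun x => exists_finset (α.hom x)
  refine ⟨⋃ x ∈ s, Multiplicative.toAdd '' ↑(s₀ x), s.finite_toSet.biUnion fun x _ => (s₀ x).finite_toSet.image _,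
    fun N L hL T g hN => (hcrit L T g).2 ?_⟩
  rw [hcrit N T g] at hN
  letI : Algebra Zu.{u} Γ(T.left, ⊤) := (g.left.appTop.hom.comp (algebraMap Zu.{u} Γ(V.left, ⊤))).toAlgebra
  let χ : Γ(V.left, ⊤) →ₐ[Zu.{u}] Γ(T.left, ⊤) := { g.left.appTop.hom with commutes' := fun _ => rfl }
  let h := mapR χ M
  have hzero : ∀ x, ((α ≫ h).hom x ∈ (chartMap Γ(T.left, ⊤) L.subtype).hom.rangeS) →
      ∀ m : Multiplicative M, m.toAdd ∉ L → g.left.appTop.hom (coefR Γ(V.left, ⊤) m (α.hom x)) = 0 := by
    rintro x ⟨y, hy⟩ m hm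
    show χ (coefR Γ(V.left, ⊤) m (α.hom x)) = 0
    rw [← coefR_map χ m]
    exact (congrArg (coefR Γ(T.left, ⊤) m) hy).symm.trans (coefR_eq_zero L m hm y)
  have hmem : ∀ x, (∀ m : Multiplicative M, m.toAdd ∉ L → g.left.appTop.hom (coefR Γ(V.left, ⊤) m (α.hom x)) = 0) →
      (α ≫ h).hom x ∈ (chartMap Γ(T.left, ⊤) L.subtype).hom.rangeS := fun x hx =>
    mem_range_of_coefR L _ fun m hm => (coefR_map χ m (α.hom x)).trans (hx m hm)
  intro m hm x
  have hxc : x ∈ Subring.closure (Set.range p.appTop.hom ∪ ↑s) := hs ▸ Subring.mem_top x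
  suffices hall : ∀ m : Multiplicative M, m.toAdd ∉ L → g.left.appTop.hom (coefR Γ(V.left, ⊤) m (α.hom x)) = 0 from
    hall m hm
  clear hm m
  induction hxc using Subring.closure_induction with
  | zero => intro m _; simp
  | one => exact hzero _ (by rw [map_one]; exact one_mem _)
  | add x y _ _ hx hy => intro m hm; rw [map_add, map_add, map_add, hx m hm, hy m hm, add_zero]
  | neg x _ hx => intro m hm; rw [map_neg, map_neg, map_neg, hx m hm, neg_zero]
  | mul x y _ _ hx hy => exact hzero _ (by rw [map_mul]; exact mul_mem (hmem x hx) (hmem y hy))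
  | mem x hx =>
    intro m hm
    rcases hx with ⟨r, rfl⟩ | hx
    · rw [hα r, MonoidAlgebra.one_def, coefR_single, if_neg, map_zero]
      rintro rfl
      exact hm (zero_mem L)
    · by_cases hms : m ∈ s₀ x
      · refine hN m (fun hmN => hm (hL ⟨Set.mem_biUnion hx ⟨m, hms, rfl⟩, hmN⟩)) x
      · rw [hs₀ x (s₀ x) subset_rfl, map_sum, Finset.sum_eq_zero, map_zero]
        intro n hn
        rw [coefR_single, if_neg]
        rintro rfl
        exact hms hn

/-- The pure magnets of a scheme affine and of finite type over a quasi-compact base form a finite set. -/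
theorem finite_setOf_pure [CompactSpace S] {X : Over S} [IsAffineHom X.hom] [LocallyOfFiniteType X.hom]
    (a : MonAct (AMonS S M) X) :
    Set.Finite {N : AddSubmonoid M | ∀ L : AddSubmonoid M,
      (∀ T : Over S, Set.range (fun φ => (attrToX a N).app (op T) φ) =
        Set.range (fun φ => (attrToX a L).app (op T) φ)) → N ≤ L} := by
  classical
  haveI : CompactSpace X.left := QuasiCompact.compactSpace_of_compactSpace X.hom
  let 𝒰 := X.left.affineCover.finiteSubcover
  let V : 𝒰.I₀ → Over S := fun k => Over.mk (𝒰.f k ≫ X.hom)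
  let j : ∀ k, V k ⟶ X := fun k => Over.homMk (𝒰.f k) rfl
  haveI : ∀ k, IsAffine (V k).left := fun k => inferInstanceAs (IsAffine (Spec _))
  choose D hD hDL using fun k => exists_finite_degrees a (V k) (j k)
  let Dt : Set M := ⋃ k, D k
  have hDt : Dt.Finite := Set.finite_iUnion hD
  refine ((hDt.finite_subsets).image AddSubmonoid.closure).subset ?_
  intro N hN
  refine ⟨Dt ∩ N, Set.inter_subset_left, le_antisymm (AddSubmonoid.closure_le.2 Set.inter_subset_right) (hN _ fun T => ?_)⟩
  let L := AddSubmonoid.closure (Dt ∩ (N : Set M))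
  have hLN : L ≤ N := AddSubmonoid.closure_le.2 Set.inter_subset_right
  ext x
  refine ⟨?_, ?_⟩
  · rintro ⟨φ, rfl⟩
    obtain ⟨Z, i, e, hi, hiz⟩ := exists_representable a L
    let x := (attrToX a N).app (op T) φ
    let 𝒱 := 𝒰.pullback₁ x.left
    let W : 𝒱.I₀ → Over S := fun k => Over.mk (𝒱.f k ≫ T.hom)
    let w : ∀ k, W k ⟶ T := fun k => Over.homMk (𝒱.f k) rfl
    have hloc : ∀ k, ∃ z : W k ⟶ Z, z ≫ i = w k ≫ x := by
      intro k
      let g : W k ⟶ V k := Over.homMk (pullback.snd x.left (𝒰.f k)) (by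
        show pullback.snd x.left (𝒰.f k) ≫ 𝒰.f k ≫ X.hom = pullback.fst x.left (𝒰.f k) ≫ T.hom
        rw [← pullback.condition_assoc, Over.w])
      have hg : g ≫ j k = w k ≫ x := Over.OverMorphism.ext pullback.condition.symm
      obtain ⟨ψ, hψ⟩ := hDL k N L (fun d hd => AddSubmonoid.subset_closure ⟨Set.mem_iUnion_of_mem k hd.1, hd.2⟩) (W k) g
        ⟨_, (app_map (attrToX a N) (w k) φ).trans hg.symm⟩
      refine ⟨e.homEquiv.symm ψ, ?_⟩
      rw [← hiz, Equiv.apply_symm_apply, hψ, hg]
    choose z hz using hloc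
    haveI := hi
    have hc : ∀ k l, pullback.fst (𝒱.f k) (𝒱.f l) ≫ (z k).left = pullback.snd (𝒱.f k) (𝒱.f l) ≫ (z l).left := by
      intro k l
      rw [← cancel_mono i.left, Category.assoc, Category.assoc, ← Over.comp_left, ← Over.comp_left, hz, hz,
        Over.comp_left, Over.comp_left]
      exact pullback.condition_assoc _
    let z₀ := Scheme.Cover.glueMorphisms 𝒱 (fun k => (z k).left) hc
    have hz₀ : z₀ ≫ i.left = x.left := Scheme.Cover.hom_ext 𝒱 _ _ fun k => by
      rw [← Category.assoc, Scheme.Cover.ι_glueMorphisms]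
      exact congrArg CommaMorphism.left (hz k)
    let z' : T ⟶ Z := Over.homMk z₀ (by rw [← Over.w i, reassoc_of% hz₀, Over.w])
    refine ⟨e.homEquiv z', ?_⟩
    exact (hiz T z').trans (Over.OverMorphism.ext hz₀)
  · rintro ⟨φ, rfl⟩
    exact ⟨(attrMap a hLN).app (op T) φ, attrToX_attrMap a hLN T φ⟩

end Groth.Agent.MagnetAttrRep
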